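import Mathlib
import Cfsg.Prelude.Def_Classical
import Cfsg.Agent.Helper98.SU33c
import Cfsg.Agent.Helper45.SUCard

/-!
# Piece (CCARD) of helper54's skeleton for S3670: `|SU_3(3)| = 6048`
-/

set_option autoImplicit false

namespace Cfsg.Agent.Helper93.U33

open Cfsg

universe u

open Cfsg.Agent.Helper98.SU33 in
/-- (CCARD) from `Helper45.GU.card_SU`. -/
theorem CCARD_card : Nat.card Cfsg.Agent.Helper98.SU33.S = 6048 := by
  have h := Cfsg.Agent.Helper45.GU.card_SU (F := Cfsg.Agent.Helper98.GF9) (q := 3)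
    (by rw [Cfsg.Agent.Helper98.card_GF9]; norm_num) 3 (by norm_num)
  have h2 : (3 : ℕ) ^ (3 * (3 - 1) / 2) *
      ∏ i ∈ Finset.range 3, (if Even i then 3 ^ (i + 1) + 1 else 3 ^ (i + 1) - 1) = 24192 := by
    decide
  rw [h2] at h
  change Nat.card (Cfsg.SU 3 Cfsg.Agent.Helper98.GF9 3) = 6048
  omega

end Cfsg.Agent.Helper93.U33
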