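import Mathlib
import Cfsg.Prelude.Def_DegreeGraph
import Cfsg.Prelude.Def_Classical
import Cfsg.Agent.Helper79.CharComplete
import Cfsg.Agent.Helper79.CharBasic
import Cfsg.Agent.Helper79.Linear
import Cfsg.Agent.Helper15.ConjChar
import Cfsg.Agent.S1489

/-!
# Piece (W1) of helper54's skeleton for S3670: the Clifford criterion for an induced linear character
-/

set_option autoImplicit false

namespace Cfsg.Agent.Helper93.U33

open Cfsg
open scoped ComplexConjugate

universe u

/-- `H` has a normal subgroup `A` of index `n` and a linear character of `A` whose inertia group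
is `A` (every element outside `A` moves it). -/
def HasInd (H : Type) [Group H] (n : ℕ) : Prop :=
  ∃ (A : Subgroup H) (hA : A.Normal) (lam : A →* ℂ), A.index = n ∧
    ∀ h : H, h ∉ A → ∃ a : A, lam ⟨h * a * h⁻¹, hA.conj_mem a a.2 h⟩ ≠ lam a

/-- inducing from a subgroup that is everything does nothing to a class function -/
theorem indFun_of_forall_mem {G : Type*} [Group G] [Fintype G] (K : Subgroup G)
    (hK : ∀ g : G, g ∈ K) (f : K → ℂ) (φ : G → ℂ) (hf : ∀ x : K, f x = φ x)
    (hφ : ∀ x g : G, φ (x⁻¹ * g * x) = φ g) : indFun K f = φ := by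
  funext g
  rw [Cfsg.Agent.Helper15.indFun_apply]
  have h1 : ∀ x : G, extendByZero K f (x⁻¹ * g * x) = φ g := by
    intro x
    rw [Cfsg.Agent.Helper15.extendByZero_of_mem K f (hK _), hf, hφ]
  rw [Finset.sum_congr rfl fun x _ => h1 x, Finset.sum_const, Finset.card_univ, nsmul_eq_mul]
  have hKtop : K = ⊤ := (Subgroup.eq_top_iff' K).mpr hK
  rw [hKtop, Subgroup.card_top, Nat.card_eq_fintype_card]
  have : (Fintype.card G : ℂ) ≠ 0 := by
    have : 0 < Fintype.card G := Fintype.card_pos
    exact_mod_cast this.ne'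
  field_simp

/-- (W1) Clifford criterion (from `S1489.result` with inertia group `T = A`, `ψ = ψ' = lam`; `lam` is
irreducible by `Helper79.isIrrCharacter_of_monoidHom`): the induced character is irreducible
of degree `n`. -/
theorem W1_induced {H : Type} [Group H] [Fintype H] (n : ℕ) (h : HasInd H n) :
    ∃ χ : IrrCharacter H, charDegree (χ : H → ℂ) = n := by
  classical
  obtain ⟨A, hA, lam, hidx, hmove⟩ := h
  have := hA
  let _ : Fintype A := Fintype.ofFinite A
  have hirr : IsIrrCharacter A (lam : A → ℂ) := Cfsg.Agent.Helper79.isIrrCharacter_of_monoidHom lam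
  have hT : ∀ g : H, g ∈ A ↔ ∀ a : A, (lam : A → ℂ) ⟨g * a * g⁻¹, hA.conj_mem a a.2 g⟩ = lam a := by
    intro g
    constructor
    · intro hg a
      have h1 : (⟨g * a * g⁻¹, hA.conj_mem a a.2 g⟩ : A) = ⟨g, hg⟩ * a * ⟨g, hg⟩⁻¹ := by
        ext; simp
      rw [h1, map_mul, map_mul, mul_comm (lam ⟨g, hg⟩), mul_assoc, ← map_mul, mul_inv_cancel,
        map_one, mul_one]
    · intro hall
      by_contra hg
      obtain ⟨a, ha⟩ := hmove g hg
      exact ha (hall a)
  have hind : indFun (A.subgroupOf A)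
      (fun x => (lam : A → ℂ) ⟨(x : A), Subgroup.mem_subgroupOf.mp x.2⟩) = (lam : A → ℂ) := by
    apply indFun_of_forall_mem
    · intro g
      exact Subgroup.mem_subgroupOf.mpr g.2
    · intro x
      rfl
    · intro x g
      rw [map_mul, map_mul, mul_comm (lam x⁻¹), mul_assoc, ← map_mul, inv_mul_cancel, map_one,
        mul_one]
  have hc : classInner (indFun (A.subgroupOf A)
      (fun x => (lam : A → ℂ) ⟨(x : A), Subgroup.mem_subgroupOf.mp x.2⟩)) (lam : A → ℂ) ≠ 0 := by
    rw [hind, Cfsg.Agent.Helper79.classInner_irr_self ⟨(lam : A → ℂ), hirr⟩]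
    exact one_ne_zero
  have hres := (Cfsg.Agent.S1489.result A A (lam : A → ℂ) hirr hT le_rfl (lam : A → ℂ)
    (lam : A → ℂ) hirr hirr hc hc).1
  refine ⟨⟨indFun A (lam : A → ℂ), hres⟩, ?_⟩
  show charDegree (indFun A (lam : A → ℂ)) = n
  unfold charDegree
  rw [Cfsg.Agent.Helper15.indFun_apply_one, hidx, map_one, mul_one]
  simp

end Cfsg.Agent.Helper93.U33
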